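import Mathlib
import Groth.Prelude
import Groth.Agent.Lib.Helper8.UnibranchHens
import Groth.Agent.Lib.Helper8.Hzl.IntegralHens
import Groth.Agent.Lib.Helper8.Hzl.QuasiFiniteHens

/-!
# Strict henselization of a tensor product when one factor is integral

`B^sh ⊗_{A^sh} C^sh → D^sh` is bijective as soon as `B^sh` is integral over `A^sh`.
-/

set_option autoImplicit false

open IsLocalRing TensorProduct

universe u

namespace Groth.Agent.Lib.Helper8.TensorSh

open Groth.Agent.Lib.Helper8.Hzl Groth.Agent.Lib.Helper8.UnibranchHens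

/-- A henselian local ring `T` with separably closed residue field, sitting between a local ring
`D0` and its strict henselization `Dsh` through local maps, and rigid over `D0`, is isomorphic to
`Dsh`. -/
theorem bijective_of_rigid (D0 Dsh T : Type u) [CommRing D0] [IsLocalRing D0] [CommRing Dsh]
    [IsLocalRing Dsh] [Algebra D0 Dsh] [IsLocalHom (algebraMap D0 Dsh)]
    [hD : Hensel.IsStrictHenselization D0 Dsh]
    [CommRing T] [HenselianLocalRing T] [IsSepClosed (ResidueField T)]
    (φ : T →+* Dsh) [IsLocalHom φ] (f : D0 →+* T) (hφf : φ.comp f = algebraMap D0 Dsh)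
    (hrigid : ∀ e : T →+* T, e.comp f = f → (∀ x, residue T (e x) = residue T x) →
      e = RingHom.id T) :
    Function.Bijective φ := by
  haveI hDshH : HenselianLocalRing Dsh := hD.henselian
  have hφf' : ∀ a, φ (f a) = algebraMap D0 Dsh a := fun a => by rw [← hφf]; rfl
  haveI hfloc : IsLocalHom f := ⟨fun a ha => by
    have h1 : IsUnit (φ (f a)) := ha.map φ
    rw [hφf'] at h1
    exact isUnit_of_map_unit (algebraMap D0 Dsh) a h1⟩
  let κφ : ResidueField T →+* ResidueField Dsh := ResidueField.map φ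
  have hκφ_surj : Function.Surjective κφ := by
    letI : Algebra (ResidueField T) (ResidueField Dsh) := κφ.toAlgebra
    letI : Algebra (ResidueField D0) (ResidueField T) := (ResidueField.map f).toAlgebra
    haveI : IsScalarTower (ResidueField D0) (ResidueField T) (ResidueField Dsh) :=
      IsScalarTower.of_algebraMap_eq (fun x => by
        obtain ⟨a, rfl⟩ := IsLocalRing.residue_surjective x
        change ResidueField.map (algebraMap D0 Dsh) (residue D0 a) =
          ResidueField.map φ (ResidueField.map f (residue D0 a))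
        rw [ResidueField.map_residue, ResidueField.map_residue, ResidueField.map_residue, hφf'])
    haveI : Algebra.IsSeparable (ResidueField D0) (ResidueField Dsh) := hD.isSepClosure.separable
    haveI : Algebra.IsSeparable (ResidueField T) (ResidueField Dsh) :=
      Algebra.isSeparable_tower_top_of_isSeparable (ResidueField D0) (ResidueField T)
        (ResidueField Dsh)
    exact IsSepClosed.algebraMap_surjective (ResidueField T) (ResidueField Dsh)
  let eκ : ResidueField T ≃+* ResidueField Dsh :=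
    RingEquiv.ofBijective κφ ⟨κφ.injective, hκφ_surj⟩
  have heκ : ∀ t : T, eκ (residue T t) = residue Dsh (φ t) := fun t => by
    change ResidueField.map φ (residue T t) = _
    rw [ResidueField.map_residue]
  let τ : ResidueField Dsh →+* ResidueField T := eκ.symm.toRingHom
  have hτκ : ∀ z, τ (eκ z) = z := fun z => eκ.symm_apply_apply z
  have hκτ : ∀ z, eκ (τ z) = z := fun z => eκ.apply_symm_apply z
  have hτ : τ.comp (ResidueField.map (algebraMap D0 Dsh)) = ResidueField.map f := by
    apply RingHom.ext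
    intro x
    obtain ⟨a, rfl⟩ := IsLocalRing.residue_surjective x
    rw [RingHom.comp_apply, ResidueField.map_residue, ResidueField.map_residue, ← hφf', ← heκ, hτκ]
  obtain ⟨g, ⟨hg1, hg2⟩, -⟩ := hD.universal T f τ hτ
  -- φ ∘ g = id
  obtain ⟨g0, -, huniq⟩ := hD.universal Dsh (algebraMap D0 Dsh) (RingHom.id _)
    (RingHom.id_comp _)
  have h1 : φ.comp g = g0 := huniq _ ⟨by rw [RingHom.comp_assoc, hg1, hφf], fun x => by
    rw [RingHom.comp_apply, ← heκ, hg2, hκτ]; rfl⟩
  have h2 : RingHom.id Dsh = g0 := huniq _ ⟨RingHom.id_comp _, fun x => rfl⟩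
  have hφg : ∀ y, φ (g y) = y := fun y => by
    have := DFunLike.congr_fun (h1.trans h2.symm) y
    exact this
  -- g ∘ φ = id
  have h3 : g.comp φ = RingHom.id T := hrigid _ (by rw [RingHom.comp_assoc, hφf, hg1]) (fun x => by
    rw [RingHom.comp_apply, hg2, ← heκ, hτκ])
  have hgφ : ∀ t, g (φ t) = t := fun t => DFunLike.congr_fun h3 t
  exact ⟨fun x y hxy => by rw [← hgφ x, ← hgφ y, hxy], fun y => ⟨g y, hφg y⟩⟩

/-- The residue field extension of an integral local algebra is integral. -/
theorem isIntegral_residueField (R S : Type u) [CommRing R] [IsLocalRing R] [CommRing S]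
    [IsLocalRing S] [Algebra R S] [IsLocalHom (algebraMap R S)] [Algebra.IsIntegral R S] :
    Algebra.IsIntegral (ResidueField R) (ResidueField S) := ⟨fun y => by
  obtain ⟨t, rfl⟩ := IsLocalRing.residue_surjective y
  exact (Algebra.IsIntegral.isIntegral (R := R) t).map_of_comp_eq (residue R) (residue S)
    (RingHom.ext fun c => rfl)⟩

attribute [local instance] Algebra.TensorProduct.rightAlgebra

/-- Main theorem: if `B^sh` is integral over `A^sh`, then `B^sh ⊗_{A^sh} C^sh → D^sh` is
bijective. -/
theorem main (A B C : Type u) [CommRing A] [CommRing B]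
    [CommRing C] [Algebra A B] [Algebra A C]
    (pA : Ideal A) [pA.IsPrime] (pB : Ideal B) [pB.IsPrime]
    (pC : Ideal C) [pC.IsPrime]
    (pD : Ideal (B ⊗[A] C)) [pD.IsPrime]
    (Ash : Type u) [CommRing Ash] [IsLocalRing Ash] [Algebra (Localization.AtPrime pA) Ash]
    [IsLocalHom (algebraMap (Localization.AtPrime pA) Ash)]
    [hAsh : Hensel.IsStrictHenselization (Localization.AtPrime pA) Ash] [Algebra A Ash]
    [IsScalarTower A (Localization.AtPrime pA) Ash]
    (Bsh : Type u) [CommRing Bsh] [IsLocalRing Bsh] [Algebra (Localization.AtPrime pB) Bsh]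
    [IsLocalHom (algebraMap (Localization.AtPrime pB) Bsh)]
    [hBsh : Hensel.IsStrictHenselization (Localization.AtPrime pB) Bsh] [Algebra B Bsh]
    [IsScalarTower B (Localization.AtPrime pB) Bsh] [Algebra A Bsh] [IsScalarTower A B Bsh]
    [Algebra Ash Bsh] [IsScalarTower A Ash Bsh] [IsLocalHom (algebraMap Ash Bsh)]
    (Csh : Type u) [CommRing Csh] [IsLocalRing Csh] [Algebra (Localization.AtPrime pC) Csh]
    [IsLocalHom (algebraMap (Localization.AtPrime pC) Csh)]
    [hCsh : Hensel.IsStrictHenselization (Localization.AtPrime pC) Csh] [Algebra C Csh]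
    [IsScalarTower C (Localization.AtPrime pC) Csh] [Algebra A Csh] [IsScalarTower A C Csh]
    [Algebra Ash Csh] [IsScalarTower A Ash Csh] [IsLocalHom (algebraMap Ash Csh)]
    (Dsh : Type u) [CommRing Dsh] [IsLocalRing Dsh] [Algebra (Localization.AtPrime pD) Dsh]
    [IsLocalHom (algebraMap (Localization.AtPrime pD) Dsh)]
    [hDsh : Hensel.IsStrictHenselization (Localization.AtPrime pD) Dsh] [Algebra (B ⊗[A] C) Dsh]
    [IsScalarTower (B ⊗[A] C) (Localization.AtPrime pD) Dsh]
    [Algebra Bsh Dsh] [IsLocalHom (algebraMap Bsh Dsh)] [Algebra B Dsh] [IsScalarTower B Bsh Dsh]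
    [IsScalarTower B (B ⊗[A] C) Dsh]
    [Algebra Csh Dsh] [IsLocalHom (algebraMap Csh Dsh)]
    (hC : ∀ c : C, algebraMap Csh Dsh (algebraMap C Csh c) = algebraMap (B ⊗[A] C) Dsh (1 ⊗ₜ[A] c))
    [Algebra Ash Dsh] [IsScalarTower Ash Bsh Dsh] [IsScalarTower Ash Csh Dsh]
    (hint : Algebra.IsIntegral Ash Bsh) :
    Function.Bijective (Algebra.TensorProduct.lift (IsScalarTower.toAlgHom Ash Bsh Dsh)
      (IsScalarTower.toAlgHom Ash Csh Dsh) (fun _ _ => Commute.all _ _)) := by
  classical
  haveI := hint
  haveI hCshH : HenselianLocalRing Csh := hCsh.henselian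
  haveI hCsc : IsSepClosed (ResidueField Csh) := hCsh.isSepClosure.sep_closed
  haveI hAsc : IsSepClosed (ResidueField Ash) := hAsh.isSepClosure.sep_closed
  let φ : Bsh ⊗[Ash] Csh →ₐ[Ash] Dsh :=
    Algebra.TensorProduct.lift (IsScalarTower.toAlgHom Ash Bsh Dsh)
      (IsScalarTower.toAlgHom Ash Csh Dsh) (fun _ _ => Commute.all _ _)
  change Function.Bijective φ
  haveI hnt : Nontrivial (Bsh ⊗[Ash] Csh) := φ.toRingHom.domain_nontrivial
  have hφBC : ∀ (b : Bsh) (c : Csh), φ (b ⊗ₜ[Ash] c) = algebraMap Bsh Dsh b * algebraMap Csh Dsh c :=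
    fun b c => by
      change Algebra.TensorProduct.lift _ _ _ (b ⊗ₜ[Ash] c) = _
      rw [Algebra.TensorProduct.lift_tmul]
      rfl
  have hφB : ∀ b : Bsh, φ (b ⊗ₜ[Ash] (1 : Csh)) = algebraMap Bsh Dsh b := fun b => by
    rw [hφBC, map_one, mul_one]
  have hφC : ∀ c : Csh, φ ((1 : Bsh) ⊗ₜ[Ash] c) = algebraMap Csh Dsh c := fun c => by
    rw [hφBC, map_one, one_mul]
  -- purely inseparable residue extension
  haveI : Algebra.IsIntegral (ResidueField Ash) (ResidueField Bsh) :=
    isIntegral_residueField Ash Bsh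
  haveI : Algebra.IsAlgebraic (ResidueField Ash) (ResidueField Bsh) :=
    Algebra.IsIntegral.isAlgebraic
  haveI hpiI : IsPurelyInseparable (ResidueField Ash) (ResidueField Bsh) := inferInstance
  have hpi : ∀ x : Bsh ⧸ maximalIdeal Bsh,
      ∃ n : ℕ, x ^ (ringExpChar (Bsh ⧸ maximalIdeal Bsh)) ^ n ∈
        ((Ideal.Quotient.mk (maximalIdeal Bsh)).comp (algebraMap Ash Bsh)).range := by
    intro x
    set q' := ringExpChar (ResidueField Ash) with hq'
    haveI : ExpChar (ResidueField Ash) q' := ringExpChar.expChar _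
    haveI : ExpChar (ResidueField Bsh) q' :=
      expChar_of_injective_ringHom (algebraMap (ResidueField Ash) (ResidueField Bsh)).injective q'
    have hq : ringExpChar (Bsh ⧸ maximalIdeal Bsh) = q' := ringExpChar.eq (ResidueField Bsh) q'
    obtain ⟨n, a, ha⟩ := IsPurelyInseparable.pow_mem (E := ResidueField Bsh) (ResidueField Ash) q' x
    obtain ⟨r, rfl⟩ := IsLocalRing.residue_surjective a
    refine ⟨n, r, ?_⟩
    rw [hq]
    exact ha
  haveI hTloc : IsLocalRing (Bsh ⊗[Ash] Csh) :=
    isLocalRing_tensor_of_purelyInseparable Ash Bsh Csh hpi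
  haveI hTint : Algebra.IsIntegral Csh (Bsh ⊗[Ash] Csh) := isIntegral_right' Ash Bsh Csh
  haveI hTh : HenselianLocalRing (Bsh ⊗[Ash] Csh) :=
    henselianLocalRing_of_isIntegral Csh (Bsh ⊗[Ash] Csh)
  have hcomapC : (maximalIdeal (Bsh ⊗[Ash] Csh)).comap (algebraMap Csh (Bsh ⊗[Ash] Csh)) =
      maximalIdeal Csh := comap_right_eq Ash Bsh Csh (maximalIdeal (Bsh ⊗[Ash] Csh))
  haveI hCTloc : IsLocalHom (algebraMap Csh (Bsh ⊗[Ash] Csh)) :=
    ((local_hom_TFAE (algebraMap Csh (Bsh ⊗[Ash] Csh))).out 0 4).mpr hcomapC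
  haveI : Algebra.IsIntegral (ResidueField Csh) (ResidueField (Bsh ⊗[Ash] Csh)) :=
    isIntegral_residueField Csh (Bsh ⊗[Ash] Csh)
  haveI : Algebra.IsAlgebraic (ResidueField Csh) (ResidueField (Bsh ⊗[Ash] Csh)) :=
    Algebra.IsIntegral.isAlgebraic
  haveI hTsc : IsSepClosed (ResidueField (Bsh ⊗[Ash] Csh)) :=
    Algebra.IsAlgebraic.isSepClosed (F := ResidueField Csh)
  -- φ is local
  have hφcompC : φ.toRingHom.comp (algebraMap Csh (Bsh ⊗[Ash] Csh)) = algebraMap Csh Dsh :=
    RingHom.ext fun c => hφC c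
  haveI hφloc : IsLocalHom φ.toRingHom := by
    have hP : ((maximalIdeal Dsh).comap φ.toRingHom).IsPrime := Ideal.comap_isPrime _ _
    have h1 : ((maximalIdeal Dsh).comap φ.toRingHom).comap (algebraMap Csh (Bsh ⊗[Ash] Csh)) =
        maximalIdeal Csh := by
      rw [Ideal.comap_comap, hφcompC]
      exact ((local_hom_TFAE (algebraMap Csh Dsh)).out 0 4).mp ‹_›
    have hmax : ((maximalIdeal Dsh).comap φ.toRingHom).IsMaximal := by
      apply Ideal.isMaximal_of_isIntegral_of_isMaximal_comap (R := Csh)
      rw [h1]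
      infer_instance
    exact ((local_hom_TFAE φ.toRingHom).out 0 4).mpr (eq_maximalIdeal hmax)
  -- the inclusions
  let ιB : Bsh →+* Bsh ⊗[Ash] Csh := Algebra.TensorProduct.includeLeftRingHom
  let ιC : Csh →+* Bsh ⊗[Ash] Csh := algebraMap Csh (Bsh ⊗[Ash] Csh)
  have hιB : ∀ b, ιB b = b ⊗ₜ[Ash] (1 : Csh) := fun b => rfl
  have hιC : ∀ c, ιC c = (1 : Bsh) ⊗ₜ[Ash] c := fun c => rfl
  have hφιB : ∀ b, φ (ιB b) = algebraMap Bsh Dsh b := fun b => hφB b
  have hφιC : ∀ c, φ (ιC c) = algebraMap Csh Dsh c := fun c => hφC c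
  haveI hιBloc : IsLocalHom ιB := ⟨fun b hb => by
    have h1 : IsUnit (φ (ιB b)) := hb.map φ
    rw [hφιB] at h1
    exact isUnit_of_map_unit (algebraMap Bsh Dsh) b h1⟩
  haveI hιCloc : IsLocalHom ιC := hCTloc
  -- the map from D
  let fB : B →ₐ[A] Bsh ⊗[Ash] Csh :=
    (Algebra.TensorProduct.includeLeft : Bsh →ₐ[A] Bsh ⊗[Ash] Csh).comp
      (IsScalarTower.toAlgHom A B Bsh)
  let fC : C →ₐ[A] Bsh ⊗[Ash] Csh :=
    { toRingHom := ιC.comp (algebraMap C Csh)
      commutes' := fun a => by
        change (1 : Bsh) ⊗ₜ[Ash] algebraMap C Csh (algebraMap A C a) =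
          algebraMap A Bsh a ⊗ₜ[Ash] (1 : Csh)
        rw [← IsScalarTower.algebraMap_apply A C Csh, IsScalarTower.algebraMap_apply A Ash Csh,
          IsScalarTower.algebraMap_apply A Ash Bsh, Algebra.algebraMap_eq_smul_one,
          Algebra.algebraMap_eq_smul_one (algebraMap A Ash a), TensorProduct.smul_tmul] }
  let f₀ : B ⊗[A] C →ₐ[A] Bsh ⊗[Ash] Csh :=
    Algebra.TensorProduct.lift fB fC (fun _ _ => Commute.all _ _)
  have hf₀ : ∀ (b : B) (c : C), f₀ (b ⊗ₜ[A] c) = ιB (algebraMap B Bsh b) * ιC (algebraMap C Csh c) :=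
    fun b c => by
      change Algebra.TensorProduct.lift _ _ _ (b ⊗ₜ[A] c) = _
      rw [Algebra.TensorProduct.lift_tmul]
      rfl
  have hφf₀ : ∀ d : B ⊗[A] C, φ (f₀ d) = algebraMap (B ⊗[A] C) Dsh d := by
    intro d
    induction d using TensorProduct.induction_on with
    | zero => rw [map_zero, map_zero, map_zero]
    | tmul b c =>
      have e1 : b ⊗ₜ[A] c = (b ⊗ₜ[A] (1 : C)) * ((1 : B) ⊗ₜ[A] c) := by
        rw [Algebra.TensorProduct.tmul_mul_tmul, mul_one, one_mul]
      have e2 : algebraMap (B ⊗[A] C) Dsh (b ⊗ₜ[A] (1 : C)) = algebraMap Bsh Dsh (algebraMap B Bsh b) := by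
        rw [← IsScalarTower.algebraMap_apply B Bsh Dsh, IsScalarTower.algebraMap_apply B (B ⊗[A] C) Dsh]
        rfl
      rw [hf₀, map_mul, hφιB, hφιC, e1, map_mul, e2, hC]
    | add x y hx hy => rw [map_add, map_add, map_add, hx, hy]
  have hunit : ∀ y : pD.primeCompl, IsUnit (f₀.toRingHom y) := by
    intro y
    have h1 : IsUnit (algebraMap (B ⊗[A] C) Dsh (y : B ⊗[A] C)) := by
      rw [IsScalarTower.algebraMap_apply (B ⊗[A] C) (Localization.AtPrime pD) Dsh]
      exact (IsLocalization.map_units (Localization.AtPrime pD) y).map _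
    rw [← hφf₀] at h1
    exact isUnit_of_map_unit φ.toRingHom _ h1
  let f : Localization.AtPrime pD →+* Bsh ⊗[Ash] Csh :=
    IsLocalization.lift (M := pD.primeCompl) (g := f₀.toRingHom) hunit
  have hff₀ : ∀ d : B ⊗[A] C, f (algebraMap (B ⊗[A] C) (Localization.AtPrime pD) d) = f₀ d :=
    fun d => IsLocalization.lift_eq hunit d
  have hφf : φ.toRingHom.comp f = algebraMap (Localization.AtPrime pD) Dsh := by
    apply IsLocalization.ringHom_ext pD.primeCompl
    apply RingHom.ext
    intro d
    rw [RingHom.comp_apply, RingHom.comp_apply, hff₀, RingHom.comp_apply,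
      ← IsScalarTower.algebraMap_apply (B ⊗[A] C) (Localization.AtPrime pD) Dsh]
    exact hφf₀ d
  -- rigidity
  have hrigid : ∀ e : Bsh ⊗[Ash] Csh →+* Bsh ⊗[Ash] Csh, e.comp f = f →
      (∀ x, residue _ (e x) = residue _ x) → e = RingHom.id _ := by
    intro e he hres
    have hef : ∀ z, e (f z) = f z := fun z => DFunLike.congr_fun he z
    -- on Bsh
    have hB : e.comp ιB = ιB := by
      let F : Localization.AtPrime pB →+* Bsh ⊗[Ash] Csh :=
        ιB.comp (algebraMap (Localization.AtPrime pB) Bsh)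
      haveI : IsLocalHom F := ⟨fun a ha => by
        have h1 : IsUnit (algebraMap (Localization.AtPrime pB) Bsh a) :=
          isUnit_of_map_unit ιB _ ha
        exact isUnit_of_map_unit (algebraMap (Localization.AtPrime pB) Bsh) a h1⟩
      have hτ : (ResidueField.map ιB).comp
          (ResidueField.map (algebraMap (Localization.AtPrime pB) Bsh)) = ResidueField.map F := by
        apply RingHom.ext
        intro x
        obtain ⟨a, rfl⟩ := IsLocalRing.residue_surjective x
        rw [RingHom.comp_apply, ResidueField.map_residue, ResidueField.map_residue,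
          ResidueField.map_residue]
        rfl
      obtain ⟨g, -, hu⟩ := hBsh.universal (Bsh ⊗[Ash] Csh) F (ResidueField.map ιB) hτ
      have h1 : e.comp ιB = g := hu _ ⟨by
        apply IsLocalization.ringHom_ext pB.primeCompl
        apply RingHom.ext
        intro b
        change e (ιB (algebraMap (Localization.AtPrime pB) Bsh (algebraMap B _ b))) =
          ιB (algebraMap (Localization.AtPrime pB) Bsh (algebraMap B _ b))
        rw [← IsScalarTower.algebraMap_apply B (Localization.AtPrime pB) Bsh]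
        have h2 : ιB (algebraMap B Bsh b) = f (algebraMap (B ⊗[A] C) (Localization.AtPrime pD)
            (b ⊗ₜ[A] (1 : C))) := by
          rw [hff₀, hf₀, map_one, map_one, mul_one]
        rw [h2, hef], fun x => by
        rw [RingHom.comp_apply, hres, ResidueField.map_residue]⟩
      have h2 : ιB = g := hu _ ⟨rfl, fun x => by rw [ResidueField.map_residue]⟩
      rw [h1, ← h2]
    have hC' : e.comp ιC = ιC := by
      let F : Localization.AtPrime pC →+* Bsh ⊗[Ash] Csh :=
        ιC.comp (algebraMap (Localization.AtPrime pC) Csh)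
      haveI : IsLocalHom F := ⟨fun a ha => by
        have h1 : IsUnit (algebraMap (Localization.AtPrime pC) Csh a) :=
          isUnit_of_map_unit ιC _ ha
        exact isUnit_of_map_unit (algebraMap (Localization.AtPrime pC) Csh) a h1⟩
      have hτ : (ResidueField.map ιC).comp
          (ResidueField.map (algebraMap (Localization.AtPrime pC) Csh)) = ResidueField.map F := by
        apply RingHom.ext
        intro x
        obtain ⟨a, rfl⟩ := IsLocalRing.residue_surjective x
        rw [RingHom.comp_apply, ResidueField.map_residue, ResidueField.map_residue,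
          ResidueField.map_residue]
        rfl
      obtain ⟨g, -, hu⟩ := hCsh.universal (Bsh ⊗[Ash] Csh) F (ResidueField.map ιC) hτ
      have h1 : e.comp ιC = g := hu _ ⟨by
        apply IsLocalization.ringHom_ext pC.primeCompl
        apply RingHom.ext
        intro c
        change e (ιC (algebraMap (Localization.AtPrime pC) Csh (algebraMap C _ c))) =
          ιC (algebraMap (Localization.AtPrime pC) Csh (algebraMap C _ c))
        rw [← IsScalarTower.algebraMap_apply C (Localization.AtPrime pC) Csh]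
        have h2 : ιC (algebraMap C Csh c) = f (algebraMap (B ⊗[A] C) (Localization.AtPrime pD)
            ((1 : B) ⊗ₜ[A] c)) := by
          rw [hff₀, hf₀, map_one, map_one, one_mul]
        rw [h2, hef], fun x => by
        rw [RingHom.comp_apply, hres, ResidueField.map_residue]⟩
      have h2 : ιC = g := hu _ ⟨rfl, fun x => by rw [ResidueField.map_residue]⟩
      rw [h1, ← h2]
    apply RingHom.ext
    intro t
    induction t using TensorProduct.induction_on with
    | zero => rw [map_zero, map_zero]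
    | tmul b c =>
      have e1 : b ⊗ₜ[Ash] c = ιB b * ιC c := by
        rw [hιB, hιC, Algebra.TensorProduct.tmul_mul_tmul, mul_one, one_mul]
      have e2 : e (ιB b) = ιB b := DFunLike.congr_fun hB b
      have e3 : e (ιC c) = ιC c := DFunLike.congr_fun hC' c
      rw [e1, map_mul, e2, e3]
      rfl
    | add x y hx hy => rw [map_add, hx, hy]; rfl
  exact bijective_of_rigid (Localization.AtPrime pD) Dsh (Bsh ⊗[Ash] Csh) φ.toRingHom f hφf hrigid

end Groth.Agent.Lib.Helper8.TensorSh
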