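import Mathlib
import Groth.Prelude
import Groth.Agent.Lib.Helper8.TensorSh.Core
import Groth.Agent.Lib.Helper8.HenselSplit

/-!
# Integrality of `B^sh` over `A^sh` for integral and ind-quasi-finite `A → B`
-/

set_option autoImplicit false

open IsLocalRing TensorProduct

universe u

namespace Groth.Agent.Lib.Helper8.TensorSh

open Groth.Agent.Lib.Helper8.Hzl Groth.Agent.Lib.Helper8

/-- Over a henselian local ring, the localization of an integral algebra at a prime over the
closed point is a quotient of the algebra. -/
theorem surjective_algebraMap_localization_of_isIntegral (R : Type u) [CommRing R]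
    [HenselianLocalRing R] (T : Type u) [CommRing T] [Algebra R T] [Algebra.IsIntegral R T]
    (Q : Ideal T) [Q.IsPrime] [hQ : Q.LiesOver (maximalIdeal R)] :
    Function.Surjective (algebraMap T (Localization.AtPrime Q)) := by
  classical
  have key : ∀ s : T, s ∉ Q → ∃ u : T, algebraMap T (Localization.AtPrime Q) s *
      algebraMap T (Localization.AtPrime Q) u = 1 := by
    intro s hs
    let T' : Subalgebra R T := Algebra.adjoin R {s}
    haveI : Module.Finite R T' := Algebra.finite_adjoin_of_finite_of_isIntegral
      (Set.finite_singleton s) (fun x _ => Algebra.IsIntegral.isIntegral x)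
    let Q' : Ideal T' := Q.comap (algebraMap T' T)
    haveI : Q'.IsPrime := Ideal.comap_isPrime _ _
    have hQ'under : Q'.comap (algebraMap R T') = maximalIdeal R := by
      rw [Ideal.comap_comap, ← IsScalarTower.algebraMap_eq R T' T]
      exact hQ.over.symm
    have hQ'max : Q'.IsMaximal := by
      haveI : Algebra.IsIntegral R T' := Algebra.IsIntegral.of_finite R T'
      apply Ideal.isMaximal_of_isIntegral_of_isMaximal_comap (R := R) Q'
      rw [hQ'under]
      exact maximalIdeal.isMaximal R
    obtain ⟨e, he, hM⟩ := exists_idempotent_notMem_iff R T' ({Q'} : Set (Ideal T'))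
    have heQ' : e ∉ Q' := (hM Q' hQ'max).mpr rfl
    have heQ : (e : T) ∉ Q := fun h => heQ' h
    let s' : T' := ⟨s, Algebra.subset_adjoin (Set.mem_singleton s)⟩
    have hs' : s' ∉ Q' := fun h => hs h
    have htop : Ideal.span ({s', 1 - e} : Set T') = ⊤ := by
      by_contra hne
      obtain ⟨M, hMmax, hle⟩ := Ideal.exists_le_maximal _ hne
      have h1 : 1 - e ∈ M := hle (Ideal.subset_span (by simp))
      have h2 : s' ∈ M := hle (Ideal.subset_span (by simp))
      have h3 : e ∉ M := fun h => hMmax.ne_top ((Ideal.eq_top_iff_one _).mpr (by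
        have := M.add_mem h1 h
        rwa [sub_add_cancel] at this))
      have h4 : M = Q' := (hM M hMmax).mp h3
      exact hs' (h4 ▸ h2)
    obtain ⟨a, b, hab⟩ := Ideal.mem_span_pair.mp ((Ideal.eq_top_iff_one _).mp htop)
    refine ⟨(a : T), ?_⟩
    have h0 : algebraMap T (Localization.AtPrime Q) ((1 - e : T') : T) = 0 := by
      have hunit : IsUnit (algebraMap T (Localization.AtPrime Q) (e : T)) :=
        IsLocalization.map_units (Localization.AtPrime Q) (⟨(e : T), heQ⟩ : Q.primeCompl)
      have hmul : algebraMap T (Localization.AtPrime Q) (e : T) *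
          algebraMap T (Localization.AtPrime Q) ((1 - e : T') : T) = 0 := by
        rw [← map_mul, ← MulMemClass.coe_mul, mul_sub, mul_one, he.eq, sub_self]
        simp
      exact hunit.mul_right_eq_zero.mp hmul
    have h1 : algebraMap T (Localization.AtPrime Q) ((a * s' + b * (1 - e) : T') : T) = 1 := by
      rw [hab]
      simp
    rw [Subalgebra.coe_add, Subalgebra.coe_mul, Subalgebra.coe_mul, map_add, map_mul, map_mul, h0,
      mul_zero, add_zero] at h1
    rw [mul_comm]
    exact h1
  intro x
  obtain ⟨a, s, rfl⟩ := IsLocalization.exists_mk'_eq Q.primeCompl x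
  obtain ⟨u, hu⟩ := key s s.2
  refine ⟨a * u, ?_⟩
  rw [IsLocalization.eq_mk'_iff_mul_eq, map_mul, mul_assoc, mul_comm (algebraMap _ _ u), hu,
    mul_one]

/-- Consequently that localization is integral over the base. -/
theorem isIntegral_localization_of_isIntegral (R : Type u) [CommRing R]
    [HenselianLocalRing R] (T : Type u) [CommRing T] [Algebra R T] [Algebra.IsIntegral R T]
    (Q : Ideal T) [Q.IsPrime] [hQ : Q.LiesOver (maximalIdeal R)] :
    Algebra.IsIntegral R (Localization.AtPrime Q) := ⟨fun x => by
  obtain ⟨t, rfl⟩ := surjective_algebraMap_localization_of_isIntegral R T Q x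
  exact (Algebra.IsIntegral.isIntegral (R := R) t).algebraMap⟩

section

variable (R : Type u) [CommRing R] (S : Type u) [CommRing S] [Algebra R S]
  (p : Ideal R) [p.IsPrime] (q : Ideal S) [q.IsPrime] [q.LiesOver p]
  (Rh : Type u) [CommRing Rh] [IsLocalRing Rh] [Algebra (Localization.AtPrime p) Rh]
  [IsLocalHom (algebraMap (Localization.AtPrime p) Rh)]
  [Algebra R Rh] [IsScalarTower R (Localization.AtPrime p) Rh]
  (Sh : Type u) [CommRing Sh] [IsLocalRing Sh] [Algebra (Localization.AtPrime q) Sh]
  [IsLocalHom (algebraMap (Localization.AtPrime q) Sh)]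
  [Algebra S Sh] [IsScalarTower S (Localization.AtPrime q) Sh] [Algebra R Sh] [IsScalarTower R S Sh]
  [Algebra Rh Sh] [IsScalarTower R Rh Sh] [IsLocalHom (algebraMap Rh Sh)]

lemma isLocalHom_algebraMap_localization_tensorPrime' :
    IsLocalHom (algebraMap Rh (Localization.AtPrime (tensorPrime R S Rh Sh))) := ⟨fun y hy => by
  haveI := liesOver_tensorPrime R S Rh Sh
  rw [IsScalarTower.algebraMap_apply Rh (Rh ⊗[R] S) (Localization.AtPrime (tensorPrime R S Rh Sh)),
    IsLocalization.AtPrime.isUnit_to_map_iff _ (tensorPrime R S Rh Sh)] at hy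
  by_contra hy'
  have h1 : y ∈ maximalIdeal Rh := hy'
  rw [(tensorPrime R S Rh Sh).over_def (maximalIdeal Rh)] at h1
  exact hy h1⟩

include p q in
/-- If the local ring of `R^sh ⊗_R S` at the canonical prime is integral over `R^sh`, then it is
the strict henselization `S^sh`, which is therefore integral over `R^sh`. -/
theorem isIntegral_shens_of_isIntegral_localization
    [hR : Hensel.IsStrictHenselization (Localization.AtPrime p) Rh]
    [hS : Hensel.IsStrictHenselization (Localization.AtPrime q) Sh]
    (hint : Algebra.IsIntegral Rh (Localization.AtPrime (tensorPrime R S Rh Sh))) :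
    Algebra.IsIntegral Rh Sh := by
  haveI := hint
  haveI : HenselianLocalRing Rh := hR.henselian
  haveI : IsSepClosed (ResidueField Rh) := hR.isSepClosure.sep_closed
  haveI := isLocalHom_algebraMap_localization_tensorPrime' R S Rh Sh
  have hhens : HenselianLocalRing (Localization.AtPrime (tensorPrime R S Rh Sh)) :=
    henselianLocalRing_of_isIntegral Rh _
  haveI : Algebra.IsIntegral (ResidueField Rh)
      (ResidueField (Localization.AtPrime (tensorPrime R S Rh Sh))) :=
    isIntegral_residueField Rh _
  haveI : Algebra.IsAlgebraic (ResidueField Rh)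
      (ResidueField (Localization.AtPrime (tensorPrime R S Rh Sh))) :=
    Algebra.IsIntegral.isAlgebraic
  haveI : IsSepClosed (ResidueField (Localization.AtPrime (tensorPrime R S Rh Sh))) :=
    Algebra.IsAlgebraic.isSepClosed (F := ResidueField Rh)
  haveI : IsLocalHom (algebraMap (Localization.AtPrime (tensorPrime R S Rh Sh))
      (Localization.AtPrime (tensorPrime R S Rh Sh))) := ⟨fun a ha => ha⟩
  have halg : (IsLocalRing.ResidueField.instAlgebra
      (R := Localization.AtPrime (tensorPrime R S Rh Sh))
      (S := Localization.AtPrime (tensorPrime R S Rh Sh))) = Algebra.id _ :=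
    Algebra.algebra_ext _ _ (fun x => by
      obtain ⟨x, rfl⟩ := residue_surjective x
      rfl)
  have hsep : @Algebra.IsSeparable (ResidueField (Localization.AtPrime (tensorPrime R S Rh Sh)))
      (ResidueField (Localization.AtPrime (tensorPrime R S Rh Sh))) _ _
      (IsLocalRing.ResidueField.instAlgebra
        (R := Localization.AtPrime (tensorPrime R S Rh Sh))
        (S := Localization.AtPrime (tensorPrime R S Rh Sh))) := by
    rw [halg]
    infer_instance
  haveI : Hensel.IsStrictHenselization (Localization.AtPrime (tensorPrime R S Rh Sh))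
      (Localization.AtPrime (tensorPrime R S Rh Sh)) :=
    ⟨hhens, @IsSepClosure.mk _ _ _ _ (IsLocalRing.ResidueField.instAlgebra
        (R := Localization.AtPrime (tensorPrime R S Rh Sh))
        (S := Localization.AtPrime (tensorPrime R S Rh Sh))) inferInstance hsep,
      fun T _ _ f _ τ hτ =>
      ⟨f, ⟨RingHom.comp_id f, fun x => (DFunLike.congr_fun hτ (residue _ x)).symm⟩,
        fun g hg => by rw [← hg.1]; rfl⟩⟩
  obtain ⟨e, he⟩ := exists_ringEquiv_tensor_strict R S p q Rh Sh
    (Localization.AtPrime (tensorPrime R S Rh Sh))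
  have he' : ∀ d : Rh ⊗[R] S, e (algebraMap (Rh ⊗[R] S)
      (Localization.AtPrime (tensorPrime R S Rh Sh)) d) = tensorTo R S Rh Sh d := fun d => he d
  refine ⟨fun y => ?_⟩
  obtain ⟨x, rfl⟩ := e.surjective y
  exact (Algebra.IsIntegral.isIntegral (R := Rh) x).map_of_comp_eq (RingHom.id Rh) e.toRingHom
    (RingHom.ext fun r => by
      change algebraMap Rh Sh r = e (algebraMap Rh (Localization.AtPrime (tensorPrime R S Rh Sh)) r)
      rw [IsScalarTower.algebraMap_apply Rh (Rh ⊗[R] S)
        (Localization.AtPrime (tensorPrime R S Rh Sh)), Algebra.TensorProduct.algebraMap_apply,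
        he', tensorTo_tmul, map_one, mul_one]
      rfl)

include p q in
/-- Integral case. -/
theorem isIntegral_shens_of_isIntegral [Algebra.IsIntegral R S]
    [hR : Hensel.IsStrictHenselization (Localization.AtPrime p) Rh]
    [hS : Hensel.IsStrictHenselization (Localization.AtPrime q) Sh] :
    Algebra.IsIntegral Rh Sh := by
  haveI : HenselianLocalRing Rh := hR.henselian
  haveI := liesOver_tensorPrime R S Rh Sh
  exact isIntegral_shens_of_isIntegral_localization R S p q Rh Sh
    (isIntegral_localization_of_isIntegral Rh (Rh ⊗[R] S) (tensorPrime R S Rh Sh))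

end

end Groth.Agent.Lib.Helper8.TensorSh
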