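import Mathlib
import Groth.Prelude
import Groth.Agent.Lib.Helper8.TensorSh.Integral

/-!
# Integrality of local rings of `R^h ⊗_R S` for ind-quasi-finite `R → S`
-/

set_option autoImplicit false

open IsLocalRing TensorProduct

universe u

namespace Groth.Agent.Lib.Helper8.TensorSh

open Groth.Agent.Lib.Helper8.Hzl Groth.Agent.Lib.Helper8

theorem isIntegral_localization_of_indQuasiFinite (R : Type u) [CommRing R] (S : Type u)
    [CommRing S] [Algebra R S] (Rh : Type u) [CommRing Rh] [HenselianLocalRing Rh] [Algebra R Rh]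
    (P : Ideal (Rh ⊗[R] S)) [P.IsPrime] [hP : P.LiesOver (maximalIdeal Rh)]
    (hB : ∀ s : Finset S, ∃ S₀ : Subalgebra R S, (↑s : Set S) ⊆ ↑S₀ ∧
      Algebra.FiniteType R ↥S₀ ∧ Algebra.QuasiFinite R ↥S₀) :
    Algebra.IsIntegral Rh (Localization.AtPrime P) := by
  classical
  have hfin : ∀ d : Rh ⊗[R] S, ∃ s : Finset S, ∀ S₀ : Subalgebra R S, (↑s : Set S) ⊆ ↑S₀ →
      d ∈ (Algebra.TensorProduct.map (AlgHom.id Rh Rh) S₀.val).range := by
    intro d
    induction d using TensorProduct.induction_on with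
    | zero => exact ⟨∅, fun S₀ _ => Subalgebra.zero_mem _⟩
    | tmul r x =>
      refine ⟨{x}, fun S₀ h => ⟨r ⊗ₜ[R] (⟨x, h (by simp)⟩ : S₀), ?_⟩⟩
      simp
    | add a b ha hb =>
      obtain ⟨s1, h1⟩ := ha
      obtain ⟨s2, h2⟩ := hb
      refine ⟨s1 ∪ s2, fun S₀ h => Subalgebra.add_mem _ (h1 S₀ ?_) (h2 S₀ ?_)⟩
      · exact fun y hy => h (by simp only [Finset.coe_union, Set.mem_union]; exact Or.inl hy)
      · exact fun y hy => h (by simp only [Finset.coe_union, Set.mem_union]; exact Or.inr hy)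
  refine ⟨fun x => ?_⟩
  obtain ⟨d, t, rfl⟩ := IsLocalization.exists_mk'_eq P.primeCompl x
  obtain ⟨s1, h1⟩ := hfin d
  obtain ⟨s2, h2⟩ := hfin (t : Rh ⊗[R] S)
  obtain ⟨S₀, hS₀, hft, hqf⟩ := hB (s1 ∪ s2)
  haveI := hft
  haveI := hqf
  let j₀ : Rh ⊗[R] S₀ →ₐ[Rh] Rh ⊗[R] S := Algebra.TensorProduct.map (AlgHom.id Rh Rh) S₀.val
  obtain ⟨d₀, hd₀⟩ := h1 S₀ (fun y hy => hS₀ (by
    simp only [Finset.coe_union, Set.mem_union]; exact Or.inl hy))
  obtain ⟨t₀, ht₀⟩ := h2 S₀ (fun y hy => hS₀ (by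
    simp only [Finset.coe_union, Set.mem_union]; exact Or.inr hy))
  have hd₀' : j₀ d₀ = d := hd₀
  have ht₀' : j₀ t₀ = (t : Rh ⊗[R] S) := ht₀
  let P₀ : Ideal (Rh ⊗[R] S₀) := P.comap j₀.toRingHom
  haveI : P₀.IsPrime := Ideal.comap_isPrime _ _
  haveI : P₀.LiesOver (maximalIdeal Rh) := ⟨by
    rw [hP.over]
    ext r
    simp only [Ideal.under, Ideal.mem_comap, P₀]
    rw [show j₀.toRingHom (algebraMap Rh (Rh ⊗[R] S₀) r) = algebraMap Rh (Rh ⊗[R] S) r from
      j₀.commutes r]⟩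
  haveI : Algebra.QuasiFinite Rh (Rh ⊗[R] S₀) := inferInstance
  haveI : Algebra.QuasiFiniteAt Rh P₀ := inferInstance
  haveI : Algebra.FiniteType Rh (Rh ⊗[R] S₀) := inferInstance
  obtain ⟨J, hfinJ, hlocJ, hlocz⟩ := exists_finite_quotient_isLocalization Rh (Rh ⊗[R] S₀) P₀
  let eD : Localization.AtPrime P₀ ≃ₐ[Rh ⊗[R] S₀] (Rh ⊗[R] S₀) ⧸ J :=
    IsLocalization.algEquiv P₀.primeCompl _ _
  haveI hfinD : Module.Finite Rh (Localization.AtPrime P₀) :=
    Module.Finite.equiv (eD.restrictScalars Rh).symm.toLinearEquiv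
  haveI : Algebra.IsIntegral Rh (Localization.AtPrime P₀) := Algebra.IsIntegral.of_finite _ _
  let ψ : Localization.AtPrime P₀ →+* Localization.AtPrime P :=
    Localization.localRingHom P₀ P j₀.toRingHom rfl
  have ht₀P : t₀ ∈ P₀.primeCompl := fun h => t.2 (by rw [← ht₀']; exact h)
  have hx : IsLocalization.mk' (Localization.AtPrime P) d t =
      ψ (IsLocalization.mk' (Localization.AtPrime P₀) d₀ ⟨t₀, ht₀P⟩) := by
    rw [Localization.localRingHom_mk']
    congr 1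
    · exact hd₀'.symm
    · exact Subtype.ext ht₀'.symm
  rw [hx]
  have hcomm : (algebraMap Rh (Localization.AtPrime P)).comp (RingHom.id Rh) =
      ψ.comp (algebraMap Rh (Localization.AtPrime P₀)) := RingHom.ext fun r => by
    rw [RingHom.comp_apply, RingHom.comp_apply, RingHom.id_apply,
      IsScalarTower.algebraMap_apply Rh (Rh ⊗[R] S₀) (Localization.AtPrime P₀),
      Localization.localRingHom_to_map,
      IsScalarTower.algebraMap_apply Rh (Rh ⊗[R] S) (Localization.AtPrime P)]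
    exact congrArg _ (j₀.commutes r).symm
  exact IsIntegral.map_of_comp_eq (S := Localization.AtPrime P₀) (U := Localization.AtPrime P)
    (RingHom.id Rh) ψ hcomm (Algebra.IsIntegral.isIntegral _)

end Groth.Agent.Lib.Helper8.TensorSh
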