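import Mathlib
import Groth.Prelude
import Groth.Agent.Lib.Helper8.TensorSh.IndQF

/-!
# Ind-quasi-finite after localization
-/

set_option autoImplicit false

open IsLocalRing TensorProduct

universe u

namespace Groth.Agent.Lib.Helper8.TensorSh

open Groth.Agent.Lib.Helper8.Hzl Groth.Agent.Lib.Helper8

section

variable (R : Type u) [CommRing R] (S : Type u) [CommRing S] [Algebra R S]
  (p : Ideal R) [p.IsPrime] (q : Ideal S) [q.IsPrime] [q.LiesOver p]
  (Rh : Type u) [CommRing Rh] [IsLocalRing Rh] [Algebra (Localization.AtPrime p) Rh]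
  [IsLocalHom (algebraMap (Localization.AtPrime p) Rh)]
  [Algebra R Rh] [IsScalarTower R (Localization.AtPrime p) Rh]
  (Sh : Type u) [CommRing Sh] [IsLocalRing Sh] [Algebra (Localization.AtPrime q) Sh]
  [IsLocalHom (algebraMap (Localization.AtPrime q) Sh)]
  [Algebra S Sh] [IsScalarTower S (Localization.AtPrime q) Sh] [Algebra R Sh] [IsScalarTower R S Sh]
  [Algebra Rh Sh] [IsScalarTower R Rh Sh] [IsLocalHom (algebraMap Rh Sh)]

include q in
theorem isIntegral_localization_of_indQuasiFinite_localization [HenselianLocalRing Rh]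
    [Algebra (Localization.AtPrime p) (Localization.AtPrime q)]
    [IsScalarTower R (Localization.AtPrime p) (Localization.AtPrime q)]
    (hB : ∀ s : Finset (Localization.AtPrime q),
      ∃ B₀ : Subalgebra (Localization.AtPrime p) (Localization.AtPrime q),
        (↑s : Set (Localization.AtPrime q)) ⊆ ↑B₀ ∧
          Algebra.FiniteType (Localization.AtPrime p) ↥B₀ ∧
            Algebra.QuasiFinite (Localization.AtPrime p) ↥B₀) :
    Algebra.IsIntegral Rh (Localization.AtPrime (tensorPrime R S Rh Sh)) := by
  classical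
  haveI hlocE := isLocalHom_algebraMap_localization_tensorPrime' R S Rh Sh
  haveI : IsScalarTower (Localization.AtPrime p) Rh
      (Localization.AtPrime (tensorPrime R S Rh Sh)) :=
    IsScalarTower.of_algebraMap_eq (fun x => by
      rw [IsScalarTower.algebraMap_apply (Localization.AtPrime p) (Rh ⊗[R] S)
        (Localization.AtPrime (tensorPrime R S Rh Sh)),
        IsScalarTower.algebraMap_apply Rh (Rh ⊗[R] S)
        (Localization.AtPrime (tensorPrime R S Rh Sh))]
      rfl)
  -- the map from `S_q`
  let β₀ : S →+* Localization.AtPrime (tensorPrime R S Rh Sh) :=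
    (algebraMap (Rh ⊗[R] S) (Localization.AtPrime (tensorPrime R S Rh Sh))).comp
      (Algebra.TensorProduct.includeRight : S →ₐ[R] Rh ⊗[R] S).toRingHom
  have hβ₀ : ∀ s : S, β₀ s = algebraMap (Rh ⊗[R] S) (Localization.AtPrime (tensorPrime R S Rh Sh))
      ((1 : Rh) ⊗ₜ[R] s) := fun s => rfl
  have hunitβ : ∀ y : q.primeCompl, IsUnit (β₀ y) := by
    intro y
    rw [hβ₀, IsLocalization.AtPrime.isUnit_to_map_iff _ (tensorPrime R S Rh Sh)]
    change ¬ (tensorTo R S Rh Sh ((1 : Rh) ⊗ₜ[R] (y : S)) ∈ maximalIdeal Sh)
    rw [tensorTo_tmul, map_one, one_mul, mem_maximalIdeal_algebraMap_iff S q Sh]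
    exact y.2
  let β' : Localization.AtPrime q →+* Localization.AtPrime (tensorPrime R S Rh Sh) :=
    IsLocalization.lift (M := q.primeCompl) (g := β₀) hunitβ
  have hβ' : ∀ s : S, β' (algebraMap S (Localization.AtPrime q) s) = β₀ s :=
    fun s => IsLocalization.lift_eq hunitβ s
  have hβ'comm : β'.comp (algebraMap (Localization.AtPrime p) (Localization.AtPrime q)) =
      algebraMap (Localization.AtPrime p) (Localization.AtPrime (tensorPrime R S Rh Sh)) := by
    apply IsLocalization.ringHom_ext p.primeCompl
    apply RingHom.ext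
    intro a
    simp only [RingHom.comp_apply]
    rw [← IsScalarTower.algebraMap_apply R (Localization.AtPrime p) (Localization.AtPrime q),
      IsScalarTower.algebraMap_apply R S (Localization.AtPrime q), hβ', hβ₀,
      IsScalarTower.algebraMap_apply (Localization.AtPrime p) Rh
        (Localization.AtPrime (tensorPrime R S Rh Sh)),
      ← IsScalarTower.algebraMap_apply R (Localization.AtPrime p) Rh,
      IsScalarTower.algebraMap_apply Rh (Rh ⊗[R] S) (Localization.AtPrime (tensorPrime R S Rh Sh)),
      Algebra.TensorProduct.algebraMap_apply, Algebra.algebraMap_eq_smul_one (R := R) (A := S),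
      Algebra.algebraMap_eq_smul_one (R := R) (A := Rh), Algebra.algebraMap_self, RingHom.id_apply,
      TensorProduct.smul_tmul]
  let βA : Localization.AtPrime q →ₐ[Localization.AtPrime p]
      Localization.AtPrime (tensorPrime R S Rh Sh) :=
    { toRingHom := β'
      commutes' := fun a => DFunLike.congr_fun hβ'comm a }
  let μ : Rh ⊗[Localization.AtPrime p] (Localization.AtPrime q) →ₐ[Rh]
      Localization.AtPrime (tensorPrime R S Rh Sh) :=
    Algebra.TensorProduct.lift (Algebra.ofId Rh _) βA (fun _ _ => Commute.all _ _)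
  have hμ : ∀ (a : Rh) (b : Localization.AtPrime q),
      μ (a ⊗ₜ[Localization.AtPrime p] b) =
        algebraMap Rh (Localization.AtPrime (tensorPrime R S Rh Sh)) a * β' b := fun a b => by
    change Algebra.TensorProduct.lift _ _ _ (a ⊗ₜ[Localization.AtPrime p] b) = _
    rw [Algebra.TensorProduct.lift_tmul]
    rfl
  let P' : Ideal (Rh ⊗[Localization.AtPrime p] (Localization.AtPrime q)) :=
    (maximalIdeal (Localization.AtPrime (tensorPrime R S Rh Sh))).comap μ.toRingHom
  haveI : P'.IsPrime := Ideal.comap_isPrime _ _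
  haveI : P'.LiesOver (maximalIdeal Rh) := ⟨by
    ext r
    simp only [Ideal.under, Ideal.mem_comap, P']
    rw [show μ.toRingHom (algebraMap Rh _ r) = algebraMap Rh _ r from μ.commutes r]
    constructor
    · intro h
      exact map_nonunit _ _ h
    · intro h
      by_contra hr
      rw [mem_maximalIdeal, mem_nonunits_iff, not_not] at hr
      exact h (hr.map _)⟩
  have hE' : Algebra.IsIntegral Rh (Localization.AtPrime P') :=
    isIntegral_localization_of_indQuasiFinite (Localization.AtPrime p) (Localization.AtPrime q)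
      Rh P' hB
  have hunitμ : ∀ y : P'.primeCompl, IsUnit (μ.toRingHom y) := by
    intro y
    have h : μ.toRingHom (y : _) ∉ maximalIdeal _ := y.2
    rw [mem_maximalIdeal, mem_nonunits_iff, not_not] at h
    exact h
  let ψ' : Localization.AtPrime P' →+* Localization.AtPrime (tensorPrime R S Rh Sh) :=
    IsLocalization.lift (M := P'.primeCompl) (g := μ.toRingHom) hunitμ
  have hψ' : ∀ z, ψ' (algebraMap _ (Localization.AtPrime P') z) = μ z :=
    fun z => IsLocalization.lift_eq hunitμ z
  -- every element of `R^h ⊗_R S` comes from the other tensor product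
  have hlift : ∀ d : Rh ⊗[R] S, ∃ d' : Rh ⊗[Localization.AtPrime p] (Localization.AtPrime q),
      μ d' = algebraMap (Rh ⊗[R] S) (Localization.AtPrime (tensorPrime R S Rh Sh)) d := by
    intro d
    induction d using TensorProduct.induction_on with
    | zero => exact ⟨0, by rw [map_zero, map_zero]⟩
    | tmul a b =>
      refine ⟨a ⊗ₜ[Localization.AtPrime p] (algebraMap S (Localization.AtPrime q) b), ?_⟩
      have e1 : a ⊗ₜ[R] b = (a ⊗ₜ[R] (1 : S)) * ((1 : Rh) ⊗ₜ[R] b) := by
        rw [Algebra.TensorProduct.tmul_mul_tmul, mul_one, one_mul]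
      rw [hμ, hβ', hβ₀, e1, map_mul,
        IsScalarTower.algebraMap_apply Rh (Rh ⊗[R] S) (Localization.AtPrime (tensorPrime R S Rh Sh)),
        Algebra.TensorProduct.algebraMap_apply]
      rfl
    | add x y hx hy =>
      obtain ⟨x', hx'⟩ := hx
      obtain ⟨y', hy'⟩ := hy
      exact ⟨x' + y', by rw [map_add, map_add, hx', hy']⟩
  refine ⟨fun x => ?_⟩
  obtain ⟨d, t, rfl⟩ := IsLocalization.exists_mk'_eq (tensorPrime R S Rh Sh).primeCompl x
  obtain ⟨d', hd'⟩ := hlift d
  obtain ⟨t', ht'⟩ := hlift (t : Rh ⊗[R] S)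
  have ht'P : t' ∈ P'.primeCompl := by
    intro h
    have h1 : μ t' ∈ maximalIdeal (Localization.AtPrime (tensorPrime R S Rh Sh)) := h
    rw [ht'] at h1
    exact h1 (IsLocalization.map_units _ t)
  have hx : IsLocalization.mk' (Localization.AtPrime (tensorPrime R S Rh Sh)) d t =
      ψ' (IsLocalization.mk' (Localization.AtPrime P') d' ⟨t', ht'P⟩) := by
    symm
    rw [IsLocalization.eq_mk'_iff_mul_eq, ← ht', ← hψ' t', ← map_mul]
    have : IsLocalization.mk' (Localization.AtPrime P') d' ⟨t', ht'P⟩ *
        algebraMap _ (Localization.AtPrime P') t' = algebraMap _ _ d' :=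
      IsLocalization.mk'_spec _ d' ⟨t', ht'P⟩
    rw [this, hψ', hd']
  rw [hx]
  have hcomm : (algebraMap Rh (Localization.AtPrime (tensorPrime R S Rh Sh))).comp (RingHom.id Rh) =
      ψ'.comp (algebraMap Rh (Localization.AtPrime P')) := RingHom.ext fun r => by
    rw [RingHom.comp_apply, RingHom.comp_apply, RingHom.id_apply,
      IsScalarTower.algebraMap_apply Rh (Rh ⊗[Localization.AtPrime p] (Localization.AtPrime q))
        (Localization.AtPrime P'), hψ']
    exact (μ.commutes r).symm
  exact IsIntegral.map_of_comp_eq (S := Localization.AtPrime P')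
    (U := Localization.AtPrime (tensorPrime R S Rh Sh))
    (RingHom.id Rh) ψ' hcomm (Algebra.IsIntegral.isIntegral _)

end

end Groth.Agent.Lib.Helper8.TensorSh
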